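import Cfsg.Agent.Lib.TC.Chain
import Cfsg.Agent.Lib.TC.D.Fi24Chain.OrbD
import Cfsg.Agent.Lib.TC.D.Fi24Chain.O0
import Cfsg.Agent.Lib.TC.D.Fi24Chain.O1
import Cfsg.Agent.Lib.TC.D.Fi24Chain.O2
import Cfsg.Agent.Lib.TC.D.Fi24Chain.O3
import Cfsg.Agent.Lib.TC.D.Fi24Chain.O4
import Cfsg.Agent.Lib.TC.D.Fi24Chain.O5
import Cfsg.Agent.Lib.TC.D.Fi24Chain.O6
import Cfsg.Agent.Lib.TC.D.Fi24Chain.O7
import Cfsg.Agent.Lib.TC.D.Fi24Chain.O8
import Cfsg.Agent.Lib.TC.D.Fi24Chain.O9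
import Cfsg.Agent.Lib.TC.D.Fi24Chain.O10
import Cfsg.Agent.Lib.TC.D.Fi24Chain.O11
import Cfsg.Agent.Lib.TC.D.Fi24Chain.O12
import Cfsg.Agent.Lib.TC.D.Fi24Chain.O13
import Cfsg.Agent.Lib.TC.D.Fi24Chain.O14
import Cfsg.Agent.Lib.TC.D.Fi24Chain.O15
import Cfsg.Agent.Lib.TC.D.Fi24Chain.O16
import Cfsg.Agent.Lib.TC.D.Fi24Chain.O17
import Cfsg.Agent.Lib.TC.D.Fi24Chain.O18
import Cfsg.Agent.Lib.TC.D.Fi24Chain.O19
import Cfsg.Agent.Lib.TC.D.Fi24Chain.O20
import Cfsg.Agent.Lib.TC.D.Fi24Chain.O21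
import Cfsg.Agent.Lib.TC.D.Fi24Chain.O22
import Cfsg.Agent.Lib.TC.D.Fi24Chain.O23
import Cfsg.Agent.Lib.TC.D.Fi24Chain.O24
import Cfsg.Agent.Lib.TC.D.Fi24Chain.O25
import Cfsg.Agent.Lib.TC.D.Fi24Chain.O26
import Cfsg.Agent.Lib.TC.D.Fi24Chain.O27
import Cfsg.Agent.Lib.TC.D.Fi24Chain.O28
import Cfsg.Agent.Lib.TC.D.Fi24Chain.O29
import Cfsg.Agent.Lib.TC.D.Fi24Chain.O30
import Cfsg.Agent.Lib.TC.D.Fi24Chain.O31
import Cfsg.Agent.Lib.TC.D.Fi24Chain.O32
import Cfsg.Agent.Lib.TC.D.Fi24Chain.O33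
import Cfsg.Agent.Lib.TC.D.Fi24Chain.O34
import Cfsg.Agent.Lib.TC.D.Fi24Chain.O35
import Cfsg.Agent.Lib.TC.D.Fi24Chain.O36
import Cfsg.Agent.Lib.TC.D.Fi24Chain.Z0
import Cfsg.Agent.Lib.TC.D.Fi24Chain.Z1
import Cfsg.Agent.Lib.TC.D.Fi24Chain.Z2

namespace Cfsg.Agent.Lib.TC.D.Fi24Chain.Orb

open Cfsg.Agent.Lib.TC.Core Cfsg.Agent.Lib.TC.Enc Cfsg.Agent.Lib.TC.Pres Cfsg.Agent.Lib.TC.Perm Cfsg.Agent.Lib.TC.Main Cfsg.Agent.Lib.TC.Chain

set_option maxRecDepth 100000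

open Cfsg.Agent.Lib.TC.D.Fi24a.Tab Cfsg.Agent.Lib.TC.D.Fi24Chain.OrbD

theorem all0 : pt.orbRange subs lab oP oW oD repr 0 8500 = true := Cfsg.Agent.Lib.TC.D.Fi24Chain.O0.ok
theorem all1 : pt.orbRange subs lab oP oW oD repr 0 17000 = true := PT.orbRange_join (lo := 0) (a := 8500) (b := 8500) _ all0 Cfsg.Agent.Lib.TC.D.Fi24Chain.O1.ok
theorem all2 : pt.orbRange subs lab oP oW oD repr 0 25500 = true := PT.orbRange_join (lo := 0) (a := 17000) (b := 8500) _ all1 Cfsg.Agent.Lib.TC.D.Fi24Chain.O2.ok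
theorem all3 : pt.orbRange subs lab oP oW oD repr 0 34000 = true := PT.orbRange_join (lo := 0) (a := 25500) (b := 8500) _ all2 Cfsg.Agent.Lib.TC.D.Fi24Chain.O3.ok
theorem all4 : pt.orbRange subs lab oP oW oD repr 0 42500 = true := PT.orbRange_join (lo := 0) (a := 34000) (b := 8500) _ all3 Cfsg.Agent.Lib.TC.D.Fi24Chain.O4.ok
theorem all5 : pt.orbRange subs lab oP oW oD repr 0 51000 = true := PT.orbRange_join (lo := 0) (a := 42500) (b := 8500) _ all4 Cfsg.Agent.Lib.TC.D.Fi24Chain.O5.ok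
theorem all6 : pt.orbRange subs lab oP oW oD repr 0 59500 = true := PT.orbRange_join (lo := 0) (a := 51000) (b := 8500) _ all5 Cfsg.Agent.Lib.TC.D.Fi24Chain.O6.ok
theorem all7 : pt.orbRange subs lab oP oW oD repr 0 68000 = true := PT.orbRange_join (lo := 0) (a := 59500) (b := 8500) _ all6 Cfsg.Agent.Lib.TC.D.Fi24Chain.O7.ok
theorem all8 : pt.orbRange subs lab oP oW oD repr 0 76500 = true := PT.orbRange_join (lo := 0) (a := 68000) (b := 8500) _ all7 Cfsg.Agent.Lib.TC.D.Fi24Chain.O8.ok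
theorem all9 : pt.orbRange subs lab oP oW oD repr 0 85000 = true := PT.orbRange_join (lo := 0) (a := 76500) (b := 8500) _ all8 Cfsg.Agent.Lib.TC.D.Fi24Chain.O9.ok
theorem all10 : pt.orbRange subs lab oP oW oD repr 0 93500 = true := PT.orbRange_join (lo := 0) (a := 85000) (b := 8500) _ all9 Cfsg.Agent.Lib.TC.D.Fi24Chain.O10.ok
theorem all11 : pt.orbRange subs lab oP oW oD repr 0 102000 = true := PT.orbRange_join (lo := 0) (a := 93500) (b := 8500) _ all10 Cfsg.Agent.Lib.TC.D.Fi24Chain.O11.ok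
theorem all12 : pt.orbRange subs lab oP oW oD repr 0 110500 = true := PT.orbRange_join (lo := 0) (a := 102000) (b := 8500) _ all11 Cfsg.Agent.Lib.TC.D.Fi24Chain.O12.ok
theorem all13 : pt.orbRange subs lab oP oW oD repr 0 119000 = true := PT.orbRange_join (lo := 0) (a := 110500) (b := 8500) _ all12 Cfsg.Agent.Lib.TC.D.Fi24Chain.O13.ok
theorem all14 : pt.orbRange subs lab oP oW oD repr 0 127500 = true := PT.orbRange_join (lo := 0) (a := 119000) (b := 8500) _ all13 Cfsg.Agent.Lib.TC.D.Fi24Chain.O14.ok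
theorem all15 : pt.orbRange subs lab oP oW oD repr 0 136000 = true := PT.orbRange_join (lo := 0) (a := 127500) (b := 8500) _ all14 Cfsg.Agent.Lib.TC.D.Fi24Chain.O15.ok
theorem all16 : pt.orbRange subs lab oP oW oD repr 0 144500 = true := PT.orbRange_join (lo := 0) (a := 136000) (b := 8500) _ all15 Cfsg.Agent.Lib.TC.D.Fi24Chain.O16.ok
theorem all17 : pt.orbRange subs lab oP oW oD repr 0 153000 = true := PT.orbRange_join (lo := 0) (a := 144500) (b := 8500) _ all16 Cfsg.Agent.Lib.TC.D.Fi24Chain.O17.ok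
theorem all18 : pt.orbRange subs lab oP oW oD repr 0 161500 = true := PT.orbRange_join (lo := 0) (a := 153000) (b := 8500) _ all17 Cfsg.Agent.Lib.TC.D.Fi24Chain.O18.ok
theorem all19 : pt.orbRange subs lab oP oW oD repr 0 170000 = true := PT.orbRange_join (lo := 0) (a := 161500) (b := 8500) _ all18 Cfsg.Agent.Lib.TC.D.Fi24Chain.O19.ok
theorem all20 : pt.orbRange subs lab oP oW oD repr 0 178500 = true := PT.orbRange_join (lo := 0) (a := 170000) (b := 8500) _ all19 Cfsg.Agent.Lib.TC.D.Fi24Chain.O20.ok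
theorem all21 : pt.orbRange subs lab oP oW oD repr 0 187000 = true := PT.orbRange_join (lo := 0) (a := 178500) (b := 8500) _ all20 Cfsg.Agent.Lib.TC.D.Fi24Chain.O21.ok
theorem all22 : pt.orbRange subs lab oP oW oD repr 0 195500 = true := PT.orbRange_join (lo := 0) (a := 187000) (b := 8500) _ all21 Cfsg.Agent.Lib.TC.D.Fi24Chain.O22.ok
theorem all23 : pt.orbRange subs lab oP oW oD repr 0 204000 = true := PT.orbRange_join (lo := 0) (a := 195500) (b := 8500) _ all22 Cfsg.Agent.Lib.TC.D.Fi24Chain.O23.ok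
theorem all24 : pt.orbRange subs lab oP oW oD repr 0 212500 = true := PT.orbRange_join (lo := 0) (a := 204000) (b := 8500) _ all23 Cfsg.Agent.Lib.TC.D.Fi24Chain.O24.ok
theorem all25 : pt.orbRange subs lab oP oW oD repr 0 221000 = true := PT.orbRange_join (lo := 0) (a := 212500) (b := 8500) _ all24 Cfsg.Agent.Lib.TC.D.Fi24Chain.O25.ok
theorem all26 : pt.orbRange subs lab oP oW oD repr 0 229500 = true := PT.orbRange_join (lo := 0) (a := 221000) (b := 8500) _ all25 Cfsg.Agent.Lib.TC.D.Fi24Chain.O26.ok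
theorem all27 : pt.orbRange subs lab oP oW oD repr 0 238000 = true := PT.orbRange_join (lo := 0) (a := 229500) (b := 8500) _ all26 Cfsg.Agent.Lib.TC.D.Fi24Chain.O27.ok
theorem all28 : pt.orbRange subs lab oP oW oD repr 0 246500 = true := PT.orbRange_join (lo := 0) (a := 238000) (b := 8500) _ all27 Cfsg.Agent.Lib.TC.D.Fi24Chain.O28.ok
theorem all29 : pt.orbRange subs lab oP oW oD repr 0 255000 = true := PT.orbRange_join (lo := 0) (a := 246500) (b := 8500) _ all28 Cfsg.Agent.Lib.TC.D.Fi24Chain.O29.ok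
theorem all30 : pt.orbRange subs lab oP oW oD repr 0 263500 = true := PT.orbRange_join (lo := 0) (a := 255000) (b := 8500) _ all29 Cfsg.Agent.Lib.TC.D.Fi24Chain.O30.ok
theorem all31 : pt.orbRange subs lab oP oW oD repr 0 272000 = true := PT.orbRange_join (lo := 0) (a := 263500) (b := 8500) _ all30 Cfsg.Agent.Lib.TC.D.Fi24Chain.O31.ok
theorem all32 : pt.orbRange subs lab oP oW oD repr 0 280500 = true := PT.orbRange_join (lo := 0) (a := 272000) (b := 8500) _ all31 Cfsg.Agent.Lib.TC.D.Fi24Chain.O32.ok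
theorem all33 : pt.orbRange subs lab oP oW oD repr 0 289000 = true := PT.orbRange_join (lo := 0) (a := 280500) (b := 8500) _ all32 Cfsg.Agent.Lib.TC.D.Fi24Chain.O33.ok
theorem all34 : pt.orbRange subs lab oP oW oD repr 0 297500 = true := PT.orbRange_join (lo := 0) (a := 289000) (b := 8500) _ all33 Cfsg.Agent.Lib.TC.D.Fi24Chain.O34.ok
theorem all35 : pt.orbRange subs lab oP oW oD repr 0 306000 = true := PT.orbRange_join (lo := 0) (a := 297500) (b := 8500) _ all34 Cfsg.Agent.Lib.TC.D.Fi24Chain.O35.ok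
theorem all36 : pt.orbRange subs lab oP oW oD repr 0 306936 = true := PT.orbRange_join (lo := 0) (a := 306000) (b := 936) _ all35 Cfsg.Agent.Lib.TC.D.Fi24Chain.O36.ok

theorem hlab : pt.orbRange subs lab oP oW oD repr 0 pt.n = true := all36

theorem hsize : ∀ ℓ, ℓ < 3 → countAcc lab ℓ 0 pt.n 0 = size ℓ := by
  intro l hl
  have hl' : l = 0 ∨ l = 1 ∨ l = 2 := by omega
  rcases hl' with rfl | rfl | rfl
  · exact Cfsg.Agent.Lib.TC.D.Fi24Chain.Z0.ok
  · exact Cfsg.Agent.Lib.TC.D.Fi24Chain.Z1.ok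
  · exact Cfsg.Agent.Lib.TC.D.Fi24Chain.Z2.ok

end Cfsg.Agent.Lib.TC.D.Fi24Chain.Orb
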