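import Cfsg.Agent.Lib.TC.Chain
import Cfsg.Agent.Lib.TC.D.Fi24a.Tab
import Cfsg.Agent.Lib.TC.D.Fi24Chain.SP0
import Cfsg.Agent.Lib.TC.D.Fi24Chain.SP1
import Cfsg.Agent.Lib.TC.D.Fi24Chain.SP2
import Cfsg.Agent.Lib.TC.D.Fi24Chain.SP3
import Cfsg.Agent.Lib.TC.D.Fi24Chain.SP4
import Cfsg.Agent.Lib.TC.D.Fi24Chain.SP5
import Cfsg.Agent.Lib.TC.D.Fi24Chain.SP6
import Cfsg.Agent.Lib.TC.D.Fi24Chain.SP7
import Cfsg.Agent.Lib.TC.D.Fi24Chain.SP8
import Cfsg.Agent.Lib.TC.D.Fi24Chain.SP9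
import Cfsg.Agent.Lib.TC.D.Fi24Chain.SP10
import Cfsg.Agent.Lib.TC.D.Fi24Chain.SP11
import Cfsg.Agent.Lib.TC.D.Fi24Chain.SP12
import Cfsg.Agent.Lib.TC.D.Fi24Chain.SP13
import Cfsg.Agent.Lib.TC.D.Fi24Chain.SP14
import Cfsg.Agent.Lib.TC.D.Fi24Chain.SP15
import Cfsg.Agent.Lib.TC.D.Fi24Chain.SP16
import Cfsg.Agent.Lib.TC.D.Fi24Chain.SP17
import Cfsg.Agent.Lib.TC.D.Fi24Chain.SP18
import Cfsg.Agent.Lib.TC.D.Fi24Chain.SP19
import Cfsg.Agent.Lib.TC.D.Fi24Chain.SP20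
import Cfsg.Agent.Lib.TC.D.Fi24Chain.SP21
import Cfsg.Agent.Lib.TC.D.Fi24Chain.SP22
import Cfsg.Agent.Lib.TC.D.Fi24Chain.SP23
import Cfsg.Agent.Lib.TC.D.Fi24Chain.SP24
import Cfsg.Agent.Lib.TC.D.Fi24Chain.SP25
import Cfsg.Agent.Lib.TC.D.Fi24Chain.SP26
import Cfsg.Agent.Lib.TC.D.Fi24Chain.SP27
import Cfsg.Agent.Lib.TC.D.Fi24Chain.SP28
import Cfsg.Agent.Lib.TC.D.Fi24Chain.SP29
import Cfsg.Agent.Lib.TC.D.Fi24Chain.SP30
import Cfsg.Agent.Lib.TC.D.Fi24Chain.SP31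
import Cfsg.Agent.Lib.TC.D.Fi24Chain.SP32
import Cfsg.Agent.Lib.TC.D.Fi24Chain.SP33
import Cfsg.Agent.Lib.TC.D.Fi24Chain.SP34
import Cfsg.Agent.Lib.TC.D.Fi24Chain.SP35
import Cfsg.Agent.Lib.TC.D.Fi24Chain.SP36
import Cfsg.Agent.Lib.TC.D.Fi24Chain.SP37
import Cfsg.Agent.Lib.TC.D.Fi24Chain.SP38
import Cfsg.Agent.Lib.TC.D.Fi24Chain.SP39
import Cfsg.Agent.Lib.TC.D.Fi24Chain.SP40
import Cfsg.Agent.Lib.TC.D.Fi24Chain.SP41
import Cfsg.Agent.Lib.TC.D.Fi24Chain.SP42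
import Cfsg.Agent.Lib.TC.D.Fi24Chain.SP43
import Cfsg.Agent.Lib.TC.D.Fi24Chain.SP44
import Cfsg.Agent.Lib.TC.D.Fi24Chain.SP45
import Cfsg.Agent.Lib.TC.D.Fi24Chain.SP46
import Cfsg.Agent.Lib.TC.D.Fi24Chain.SP47
import Cfsg.Agent.Lib.TC.D.Fi24Chain.SP48
import Cfsg.Agent.Lib.TC.D.Fi24Chain.SP49
import Cfsg.Agent.Lib.TC.D.Fi24Chain.SP50
import Cfsg.Agent.Lib.TC.D.Fi24Chain.SP51
import Cfsg.Agent.Lib.TC.D.Fi24Chain.SP52
import Cfsg.Agent.Lib.TC.D.Fi24Chain.SP53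
import Cfsg.Agent.Lib.TC.D.Fi24Chain.SP54
import Cfsg.Agent.Lib.TC.D.Fi24Chain.SP55
import Cfsg.Agent.Lib.TC.D.Fi24Chain.SP56
import Cfsg.Agent.Lib.TC.D.Fi24Chain.SP57
import Cfsg.Agent.Lib.TC.D.Fi24Chain.SP58
import Cfsg.Agent.Lib.TC.D.Fi24Chain.SP59
import Cfsg.Agent.Lib.TC.D.Fi24Chain.SP60
import Cfsg.Agent.Lib.TC.D.Fi24Chain.SP61
import Cfsg.Agent.Lib.TC.D.Fi24Chain.SP62
import Cfsg.Agent.Lib.TC.D.Fi24Chain.SP63
import Cfsg.Agent.Lib.TC.D.Fi24Chain.SP64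
import Cfsg.Agent.Lib.TC.D.Fi24Chain.SP65
import Cfsg.Agent.Lib.TC.D.Fi24Chain.SP66
import Cfsg.Agent.Lib.TC.D.Fi24Chain.SP67
import Cfsg.Agent.Lib.TC.D.Fi24Chain.SP68
import Cfsg.Agent.Lib.TC.D.Fi24Chain.SP69
import Cfsg.Agent.Lib.TC.D.Fi24Chain.SP70
import Cfsg.Agent.Lib.TC.D.Fi24Chain.SP71
import Cfsg.Agent.Lib.TC.D.Fi24Chain.SP72
import Cfsg.Agent.Lib.TC.D.Fi24Chain.SP73
import Cfsg.Agent.Lib.TC.D.Fi24Chain.SP74
import Cfsg.Agent.Lib.TC.D.Fi24Chain.SP75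
import Cfsg.Agent.Lib.TC.D.Fi24Chain.SP76
import Cfsg.Agent.Lib.TC.D.Fi24Chain.SP77
import Cfsg.Agent.Lib.TC.D.Fi24Chain.SP78
import Cfsg.Agent.Lib.TC.D.Fi24Chain.SP79
import Cfsg.Agent.Lib.TC.D.Fi24Chain.SP80
import Cfsg.Agent.Lib.TC.D.Fi24Chain.SP81
import Cfsg.Agent.Lib.TC.D.Fi24Chain.SP82
import Cfsg.Agent.Lib.TC.D.Fi24Chain.SP83
import Cfsg.Agent.Lib.TC.D.Fi24Chain.SP84
import Cfsg.Agent.Lib.TC.D.Fi24Chain.SP85
import Cfsg.Agent.Lib.TC.D.Fi24Chain.SP86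
import Cfsg.Agent.Lib.TC.D.Fi24Chain.SP87
import Cfsg.Agent.Lib.TC.D.Fi24Chain.SP88
import Cfsg.Agent.Lib.TC.D.Fi24Chain.SP89
import Cfsg.Agent.Lib.TC.D.Fi24Chain.SP90
import Cfsg.Agent.Lib.TC.D.Fi24Chain.SP91
import Cfsg.Agent.Lib.TC.D.Fi24Chain.SP92
import Cfsg.Agent.Lib.TC.D.Fi24Chain.SP93
import Cfsg.Agent.Lib.TC.D.Fi24Chain.SP94
import Cfsg.Agent.Lib.TC.D.Fi24Chain.SP95
import Cfsg.Agent.Lib.TC.D.Fi24Chain.SP96
import Cfsg.Agent.Lib.TC.D.Fi24Chain.SP97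
import Cfsg.Agent.Lib.TC.D.Fi24Chain.SP98
import Cfsg.Agent.Lib.TC.D.Fi24Chain.SP99
import Cfsg.Agent.Lib.TC.D.Fi24Chain.SP100
import Cfsg.Agent.Lib.TC.D.Fi24Chain.SP101
import Cfsg.Agent.Lib.TC.D.Fi24Chain.SP102
import Cfsg.Agent.Lib.TC.D.Fi24Chain.SP103
import Cfsg.Agent.Lib.TC.D.Fi24Chain.SP104
import Cfsg.Agent.Lib.TC.D.Fi24Chain.SP105
import Cfsg.Agent.Lib.TC.D.Fi24Chain.SP106
import Cfsg.Agent.Lib.TC.D.Fi24Chain.SP107
import Cfsg.Agent.Lib.TC.D.Fi24Chain.SP108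
import Cfsg.Agent.Lib.TC.D.Fi24Chain.SP109
import Cfsg.Agent.Lib.TC.D.Fi24Chain.SP110
import Cfsg.Agent.Lib.TC.D.Fi24Chain.SP111
import Cfsg.Agent.Lib.TC.D.Fi24Chain.SP112
import Cfsg.Agent.Lib.TC.D.Fi24Chain.SP113
import Cfsg.Agent.Lib.TC.D.Fi24Chain.SP114
import Cfsg.Agent.Lib.TC.D.Fi24Chain.SP115
import Cfsg.Agent.Lib.TC.D.Fi24Chain.SP116
import Cfsg.Agent.Lib.TC.D.Fi24Chain.SP117
import Cfsg.Agent.Lib.TC.D.Fi24Chain.SP118
import Cfsg.Agent.Lib.TC.D.Fi24Chain.SP119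
import Cfsg.Agent.Lib.TC.D.Fi24Chain.SP120
import Cfsg.Agent.Lib.TC.D.Fi24Chain.SP121
import Cfsg.Agent.Lib.TC.D.Fi24Chain.SP122
import Cfsg.Agent.Lib.TC.D.Fi24Chain.SP123
import Cfsg.Agent.Lib.TC.D.Fi24Chain.SP124
import Cfsg.Agent.Lib.TC.D.Fi24Chain.SP125
import Cfsg.Agent.Lib.TC.D.Fi24Chain.SP126
import Cfsg.Agent.Lib.TC.D.Fi24Chain.SP127
import Cfsg.Agent.Lib.TC.D.Fi24Chain.SP128
import Cfsg.Agent.Lib.TC.D.Fi24Chain.SP129
import Cfsg.Agent.Lib.TC.D.Fi24Chain.SP130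
import Cfsg.Agent.Lib.TC.D.Fi24Chain.SP131
import Cfsg.Agent.Lib.TC.D.Fi24Chain.SP132
import Cfsg.Agent.Lib.TC.D.Fi24Chain.SP133
import Cfsg.Agent.Lib.TC.D.Fi24Chain.SP134
import Cfsg.Agent.Lib.TC.D.Fi24Chain.SP135
import Cfsg.Agent.Lib.TC.D.Fi24Chain.SP136
import Cfsg.Agent.Lib.TC.D.Fi24Chain.SP137
import Cfsg.Agent.Lib.TC.D.Fi24Chain.SP138
import Cfsg.Agent.Lib.TC.D.Fi24Chain.SP139
import Cfsg.Agent.Lib.TC.D.Fi24Chain.SP140
import Cfsg.Agent.Lib.TC.D.Fi24Chain.SP141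

namespace Cfsg.Agent.Lib.TC.D.Fi24Chain.SP

open Cfsg.Agent.Lib.TC.Core Cfsg.Agent.Lib.TC.Enc Cfsg.Agent.Lib.TC.Pres Cfsg.Agent.Lib.TC.Perm Cfsg.Agent.Lib.TC.Main Cfsg.Agent.Lib.TC.Chain

set_option maxRecDepth 100000

open Cfsg.Agent.Lib.TC.D.Fi24a.Tab

/-- The further word. -/
def sw : List Nat := (List.replicate 10 [11,10,5,7,6,5,3,4,5]).flatten

theorem all0 : pt.chkRange [sw] 0 2170 = true := Cfsg.Agent.Lib.TC.D.Fi24Chain.SP0.ok
theorem all1 : pt.chkRange [sw] 0 4340 = true := PT.chkRange_join (lo := 0) (a := 2170) (b := 2170) _ all0 Cfsg.Agent.Lib.TC.D.Fi24Chain.SP1.ok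
theorem all2 : pt.chkRange [sw] 0 6510 = true := PT.chkRange_join (lo := 0) (a := 4340) (b := 2170) _ all1 Cfsg.Agent.Lib.TC.D.Fi24Chain.SP2.ok
theorem all3 : pt.chkRange [sw] 0 8680 = true := PT.chkRange_join (lo := 0) (a := 6510) (b := 2170) _ all2 Cfsg.Agent.Lib.TC.D.Fi24Chain.SP3.ok
theorem all4 : pt.chkRange [sw] 0 10850 = true := PT.chkRange_join (lo := 0) (a := 8680) (b := 2170) _ all3 Cfsg.Agent.Lib.TC.D.Fi24Chain.SP4.ok
theorem all5 : pt.chkRange [sw] 0 13020 = true := PT.chkRange_join (lo := 0) (a := 10850) (b := 2170) _ all4 Cfsg.Agent.Lib.TC.D.Fi24Chain.SP5.ok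
theorem all6 : pt.chkRange [sw] 0 15190 = true := PT.chkRange_join (lo := 0) (a := 13020) (b := 2170) _ all5 Cfsg.Agent.Lib.TC.D.Fi24Chain.SP6.ok
theorem all7 : pt.chkRange [sw] 0 17360 = true := PT.chkRange_join (lo := 0) (a := 15190) (b := 2170) _ all6 Cfsg.Agent.Lib.TC.D.Fi24Chain.SP7.ok
theorem all8 : pt.chkRange [sw] 0 19530 = true := PT.chkRange_join (lo := 0) (a := 17360) (b := 2170) _ all7 Cfsg.Agent.Lib.TC.D.Fi24Chain.SP8.ok
theorem all9 : pt.chkRange [sw] 0 21700 = true := PT.chkRange_join (lo := 0) (a := 19530) (b := 2170) _ all8 Cfsg.Agent.Lib.TC.D.Fi24Chain.SP9.ok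
theorem all10 : pt.chkRange [sw] 0 23870 = true := PT.chkRange_join (lo := 0) (a := 21700) (b := 2170) _ all9 Cfsg.Agent.Lib.TC.D.Fi24Chain.SP10.ok
theorem all11 : pt.chkRange [sw] 0 26040 = true := PT.chkRange_join (lo := 0) (a := 23870) (b := 2170) _ all10 Cfsg.Agent.Lib.TC.D.Fi24Chain.SP11.ok
theorem all12 : pt.chkRange [sw] 0 28210 = true := PT.chkRange_join (lo := 0) (a := 26040) (b := 2170) _ all11 Cfsg.Agent.Lib.TC.D.Fi24Chain.SP12.ok
theorem all13 : pt.chkRange [sw] 0 30380 = true := PT.chkRange_join (lo := 0) (a := 28210) (b := 2170) _ all12 Cfsg.Agent.Lib.TC.D.Fi24Chain.SP13.ok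
theorem all14 : pt.chkRange [sw] 0 32550 = true := PT.chkRange_join (lo := 0) (a := 30380) (b := 2170) _ all13 Cfsg.Agent.Lib.TC.D.Fi24Chain.SP14.ok
theorem all15 : pt.chkRange [sw] 0 34720 = true := PT.chkRange_join (lo := 0) (a := 32550) (b := 2170) _ all14 Cfsg.Agent.Lib.TC.D.Fi24Chain.SP15.ok
theorem all16 : pt.chkRange [sw] 0 36890 = true := PT.chkRange_join (lo := 0) (a := 34720) (b := 2170) _ all15 Cfsg.Agent.Lib.TC.D.Fi24Chain.SP16.ok
theorem all17 : pt.chkRange [sw] 0 39060 = true := PT.chkRange_join (lo := 0) (a := 36890) (b := 2170) _ all16 Cfsg.Agent.Lib.TC.D.Fi24Chain.SP17.ok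
theorem all18 : pt.chkRange [sw] 0 41230 = true := PT.chkRange_join (lo := 0) (a := 39060) (b := 2170) _ all17 Cfsg.Agent.Lib.TC.D.Fi24Chain.SP18.ok
theorem all19 : pt.chkRange [sw] 0 43400 = true := PT.chkRange_join (lo := 0) (a := 41230) (b := 2170) _ all18 Cfsg.Agent.Lib.TC.D.Fi24Chain.SP19.ok
theorem all20 : pt.chkRange [sw] 0 45570 = true := PT.chkRange_join (lo := 0) (a := 43400) (b := 2170) _ all19 Cfsg.Agent.Lib.TC.D.Fi24Chain.SP20.ok
theorem all21 : pt.chkRange [sw] 0 47740 = true := PT.chkRange_join (lo := 0) (a := 45570) (b := 2170) _ all20 Cfsg.Agent.Lib.TC.D.Fi24Chain.SP21.ok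
theorem all22 : pt.chkRange [sw] 0 49910 = true := PT.chkRange_join (lo := 0) (a := 47740) (b := 2170) _ all21 Cfsg.Agent.Lib.TC.D.Fi24Chain.SP22.ok
theorem all23 : pt.chkRange [sw] 0 52080 = true := PT.chkRange_join (lo := 0) (a := 49910) (b := 2170) _ all22 Cfsg.Agent.Lib.TC.D.Fi24Chain.SP23.ok
theorem all24 : pt.chkRange [sw] 0 54250 = true := PT.chkRange_join (lo := 0) (a := 52080) (b := 2170) _ all23 Cfsg.Agent.Lib.TC.D.Fi24Chain.SP24.ok
theorem all25 : pt.chkRange [sw] 0 56420 = true := PT.chkRange_join (lo := 0) (a := 54250) (b := 2170) _ all24 Cfsg.Agent.Lib.TC.D.Fi24Chain.SP25.ok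
theorem all26 : pt.chkRange [sw] 0 58590 = true := PT.chkRange_join (lo := 0) (a := 56420) (b := 2170) _ all25 Cfsg.Agent.Lib.TC.D.Fi24Chain.SP26.ok
theorem all27 : pt.chkRange [sw] 0 60760 = true := PT.chkRange_join (lo := 0) (a := 58590) (b := 2170) _ all26 Cfsg.Agent.Lib.TC.D.Fi24Chain.SP27.ok
theorem all28 : pt.chkRange [sw] 0 62930 = true := PT.chkRange_join (lo := 0) (a := 60760) (b := 2170) _ all27 Cfsg.Agent.Lib.TC.D.Fi24Chain.SP28.ok
theorem all29 : pt.chkRange [sw] 0 65100 = true := PT.chkRange_join (lo := 0) (a := 62930) (b := 2170) _ all28 Cfsg.Agent.Lib.TC.D.Fi24Chain.SP29.ok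
theorem all30 : pt.chkRange [sw] 0 67270 = true := PT.chkRange_join (lo := 0) (a := 65100) (b := 2170) _ all29 Cfsg.Agent.Lib.TC.D.Fi24Chain.SP30.ok
theorem all31 : pt.chkRange [sw] 0 69440 = true := PT.chkRange_join (lo := 0) (a := 67270) (b := 2170) _ all30 Cfsg.Agent.Lib.TC.D.Fi24Chain.SP31.ok
theorem all32 : pt.chkRange [sw] 0 71610 = true := PT.chkRange_join (lo := 0) (a := 69440) (b := 2170) _ all31 Cfsg.Agent.Lib.TC.D.Fi24Chain.SP32.ok
theorem all33 : pt.chkRange [sw] 0 73780 = true := PT.chkRange_join (lo := 0) (a := 71610) (b := 2170) _ all32 Cfsg.Agent.Lib.TC.D.Fi24Chain.SP33.ok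
theorem all34 : pt.chkRange [sw] 0 75950 = true := PT.chkRange_join (lo := 0) (a := 73780) (b := 2170) _ all33 Cfsg.Agent.Lib.TC.D.Fi24Chain.SP34.ok
theorem all35 : pt.chkRange [sw] 0 78120 = true := PT.chkRange_join (lo := 0) (a := 75950) (b := 2170) _ all34 Cfsg.Agent.Lib.TC.D.Fi24Chain.SP35.ok
theorem all36 : pt.chkRange [sw] 0 80290 = true := PT.chkRange_join (lo := 0) (a := 78120) (b := 2170) _ all35 Cfsg.Agent.Lib.TC.D.Fi24Chain.SP36.ok
theorem all37 : pt.chkRange [sw] 0 82460 = true := PT.chkRange_join (lo := 0) (a := 80290) (b := 2170) _ all36 Cfsg.Agent.Lib.TC.D.Fi24Chain.SP37.ok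
theorem all38 : pt.chkRange [sw] 0 84630 = true := PT.chkRange_join (lo := 0) (a := 82460) (b := 2170) _ all37 Cfsg.Agent.Lib.TC.D.Fi24Chain.SP38.ok
theorem all39 : pt.chkRange [sw] 0 86800 = true := PT.chkRange_join (lo := 0) (a := 84630) (b := 2170) _ all38 Cfsg.Agent.Lib.TC.D.Fi24Chain.SP39.ok
theorem all40 : pt.chkRange [sw] 0 88970 = true := PT.chkRange_join (lo := 0) (a := 86800) (b := 2170) _ all39 Cfsg.Agent.Lib.TC.D.Fi24Chain.SP40.ok
theorem all41 : pt.chkRange [sw] 0 91140 = true := PT.chkRange_join (lo := 0) (a := 88970) (b := 2170) _ all40 Cfsg.Agent.Lib.TC.D.Fi24Chain.SP41.ok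
theorem all42 : pt.chkRange [sw] 0 93310 = true := PT.chkRange_join (lo := 0) (a := 91140) (b := 2170) _ all41 Cfsg.Agent.Lib.TC.D.Fi24Chain.SP42.ok
theorem all43 : pt.chkRange [sw] 0 95480 = true := PT.chkRange_join (lo := 0) (a := 93310) (b := 2170) _ all42 Cfsg.Agent.Lib.TC.D.Fi24Chain.SP43.ok
theorem all44 : pt.chkRange [sw] 0 97650 = true := PT.chkRange_join (lo := 0) (a := 95480) (b := 2170) _ all43 Cfsg.Agent.Lib.TC.D.Fi24Chain.SP44.ok
theorem all45 : pt.chkRange [sw] 0 99820 = true := PT.chkRange_join (lo := 0) (a := 97650) (b := 2170) _ all44 Cfsg.Agent.Lib.TC.D.Fi24Chain.SP45.ok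
theorem all46 : pt.chkRange [sw] 0 101990 = true := PT.chkRange_join (lo := 0) (a := 99820) (b := 2170) _ all45 Cfsg.Agent.Lib.TC.D.Fi24Chain.SP46.ok
theorem all47 : pt.chkRange [sw] 0 104160 = true := PT.chkRange_join (lo := 0) (a := 101990) (b := 2170) _ all46 Cfsg.Agent.Lib.TC.D.Fi24Chain.SP47.ok
theorem all48 : pt.chkRange [sw] 0 106330 = true := PT.chkRange_join (lo := 0) (a := 104160) (b := 2170) _ all47 Cfsg.Agent.Lib.TC.D.Fi24Chain.SP48.ok
theorem all49 : pt.chkRange [sw] 0 108500 = true := PT.chkRange_join (lo := 0) (a := 106330) (b := 2170) _ all48 Cfsg.Agent.Lib.TC.D.Fi24Chain.SP49.ok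
theorem all50 : pt.chkRange [sw] 0 110670 = true := PT.chkRange_join (lo := 0) (a := 108500) (b := 2170) _ all49 Cfsg.Agent.Lib.TC.D.Fi24Chain.SP50.ok
theorem all51 : pt.chkRange [sw] 0 112840 = true := PT.chkRange_join (lo := 0) (a := 110670) (b := 2170) _ all50 Cfsg.Agent.Lib.TC.D.Fi24Chain.SP51.ok
theorem all52 : pt.chkRange [sw] 0 115010 = true := PT.chkRange_join (lo := 0) (a := 112840) (b := 2170) _ all51 Cfsg.Agent.Lib.TC.D.Fi24Chain.SP52.ok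
theorem all53 : pt.chkRange [sw] 0 117180 = true := PT.chkRange_join (lo := 0) (a := 115010) (b := 2170) _ all52 Cfsg.Agent.Lib.TC.D.Fi24Chain.SP53.ok
theorem all54 : pt.chkRange [sw] 0 119350 = true := PT.chkRange_join (lo := 0) (a := 117180) (b := 2170) _ all53 Cfsg.Agent.Lib.TC.D.Fi24Chain.SP54.ok
theorem all55 : pt.chkRange [sw] 0 121520 = true := PT.chkRange_join (lo := 0) (a := 119350) (b := 2170) _ all54 Cfsg.Agent.Lib.TC.D.Fi24Chain.SP55.ok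
theorem all56 : pt.chkRange [sw] 0 123690 = true := PT.chkRange_join (lo := 0) (a := 121520) (b := 2170) _ all55 Cfsg.Agent.Lib.TC.D.Fi24Chain.SP56.ok
theorem all57 : pt.chkRange [sw] 0 125860 = true := PT.chkRange_join (lo := 0) (a := 123690) (b := 2170) _ all56 Cfsg.Agent.Lib.TC.D.Fi24Chain.SP57.ok
theorem all58 : pt.chkRange [sw] 0 128030 = true := PT.chkRange_join (lo := 0) (a := 125860) (b := 2170) _ all57 Cfsg.Agent.Lib.TC.D.Fi24Chain.SP58.ok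
theorem all59 : pt.chkRange [sw] 0 130200 = true := PT.chkRange_join (lo := 0) (a := 128030) (b := 2170) _ all58 Cfsg.Agent.Lib.TC.D.Fi24Chain.SP59.ok
theorem all60 : pt.chkRange [sw] 0 132370 = true := PT.chkRange_join (lo := 0) (a := 130200) (b := 2170) _ all59 Cfsg.Agent.Lib.TC.D.Fi24Chain.SP60.ok
theorem all61 : pt.chkRange [sw] 0 134540 = true := PT.chkRange_join (lo := 0) (a := 132370) (b := 2170) _ all60 Cfsg.Agent.Lib.TC.D.Fi24Chain.SP61.ok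
theorem all62 : pt.chkRange [sw] 0 136710 = true := PT.chkRange_join (lo := 0) (a := 134540) (b := 2170) _ all61 Cfsg.Agent.Lib.TC.D.Fi24Chain.SP62.ok
theorem all63 : pt.chkRange [sw] 0 138880 = true := PT.chkRange_join (lo := 0) (a := 136710) (b := 2170) _ all62 Cfsg.Agent.Lib.TC.D.Fi24Chain.SP63.ok
theorem all64 : pt.chkRange [sw] 0 141050 = true := PT.chkRange_join (lo := 0) (a := 138880) (b := 2170) _ all63 Cfsg.Agent.Lib.TC.D.Fi24Chain.SP64.ok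
theorem all65 : pt.chkRange [sw] 0 143220 = true := PT.chkRange_join (lo := 0) (a := 141050) (b := 2170) _ all64 Cfsg.Agent.Lib.TC.D.Fi24Chain.SP65.ok
theorem all66 : pt.chkRange [sw] 0 145390 = true := PT.chkRange_join (lo := 0) (a := 143220) (b := 2170) _ all65 Cfsg.Agent.Lib.TC.D.Fi24Chain.SP66.ok
theorem all67 : pt.chkRange [sw] 0 147560 = true := PT.chkRange_join (lo := 0) (a := 145390) (b := 2170) _ all66 Cfsg.Agent.Lib.TC.D.Fi24Chain.SP67.ok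
theorem all68 : pt.chkRange [sw] 0 149730 = true := PT.chkRange_join (lo := 0) (a := 147560) (b := 2170) _ all67 Cfsg.Agent.Lib.TC.D.Fi24Chain.SP68.ok
theorem all69 : pt.chkRange [sw] 0 151900 = true := PT.chkRange_join (lo := 0) (a := 149730) (b := 2170) _ all68 Cfsg.Agent.Lib.TC.D.Fi24Chain.SP69.ok
theorem all70 : pt.chkRange [sw] 0 154070 = true := PT.chkRange_join (lo := 0) (a := 151900) (b := 2170) _ all69 Cfsg.Agent.Lib.TC.D.Fi24Chain.SP70.ok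
theorem all71 : pt.chkRange [sw] 0 156240 = true := PT.chkRange_join (lo := 0) (a := 154070) (b := 2170) _ all70 Cfsg.Agent.Lib.TC.D.Fi24Chain.SP71.ok
theorem all72 : pt.chkRange [sw] 0 158410 = true := PT.chkRange_join (lo := 0) (a := 156240) (b := 2170) _ all71 Cfsg.Agent.Lib.TC.D.Fi24Chain.SP72.ok
theorem all73 : pt.chkRange [sw] 0 160580 = true := PT.chkRange_join (lo := 0) (a := 158410) (b := 2170) _ all72 Cfsg.Agent.Lib.TC.D.Fi24Chain.SP73.ok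
theorem all74 : pt.chkRange [sw] 0 162750 = true := PT.chkRange_join (lo := 0) (a := 160580) (b := 2170) _ all73 Cfsg.Agent.Lib.TC.D.Fi24Chain.SP74.ok
theorem all75 : pt.chkRange [sw] 0 164920 = true := PT.chkRange_join (lo := 0) (a := 162750) (b := 2170) _ all74 Cfsg.Agent.Lib.TC.D.Fi24Chain.SP75.ok
theorem all76 : pt.chkRange [sw] 0 167090 = true := PT.chkRange_join (lo := 0) (a := 164920) (b := 2170) _ all75 Cfsg.Agent.Lib.TC.D.Fi24Chain.SP76.ok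
theorem all77 : pt.chkRange [sw] 0 169260 = true := PT.chkRange_join (lo := 0) (a := 167090) (b := 2170) _ all76 Cfsg.Agent.Lib.TC.D.Fi24Chain.SP77.ok
theorem all78 : pt.chkRange [sw] 0 171430 = true := PT.chkRange_join (lo := 0) (a := 169260) (b := 2170) _ all77 Cfsg.Agent.Lib.TC.D.Fi24Chain.SP78.ok
theorem all79 : pt.chkRange [sw] 0 173600 = true := PT.chkRange_join (lo := 0) (a := 171430) (b := 2170) _ all78 Cfsg.Agent.Lib.TC.D.Fi24Chain.SP79.ok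
theorem all80 : pt.chkRange [sw] 0 175770 = true := PT.chkRange_join (lo := 0) (a := 173600) (b := 2170) _ all79 Cfsg.Agent.Lib.TC.D.Fi24Chain.SP80.ok
theorem all81 : pt.chkRange [sw] 0 177940 = true := PT.chkRange_join (lo := 0) (a := 175770) (b := 2170) _ all80 Cfsg.Agent.Lib.TC.D.Fi24Chain.SP81.ok
theorem all82 : pt.chkRange [sw] 0 180110 = true := PT.chkRange_join (lo := 0) (a := 177940) (b := 2170) _ all81 Cfsg.Agent.Lib.TC.D.Fi24Chain.SP82.ok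
theorem all83 : pt.chkRange [sw] 0 182280 = true := PT.chkRange_join (lo := 0) (a := 180110) (b := 2170) _ all82 Cfsg.Agent.Lib.TC.D.Fi24Chain.SP83.ok
theorem all84 : pt.chkRange [sw] 0 184450 = true := PT.chkRange_join (lo := 0) (a := 182280) (b := 2170) _ all83 Cfsg.Agent.Lib.TC.D.Fi24Chain.SP84.ok
theorem all85 : pt.chkRange [sw] 0 186620 = true := PT.chkRange_join (lo := 0) (a := 184450) (b := 2170) _ all84 Cfsg.Agent.Lib.TC.D.Fi24Chain.SP85.ok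
theorem all86 : pt.chkRange [sw] 0 188790 = true := PT.chkRange_join (lo := 0) (a := 186620) (b := 2170) _ all85 Cfsg.Agent.Lib.TC.D.Fi24Chain.SP86.ok
theorem all87 : pt.chkRange [sw] 0 190960 = true := PT.chkRange_join (lo := 0) (a := 188790) (b := 2170) _ all86 Cfsg.Agent.Lib.TC.D.Fi24Chain.SP87.ok
theorem all88 : pt.chkRange [sw] 0 193130 = true := PT.chkRange_join (lo := 0) (a := 190960) (b := 2170) _ all87 Cfsg.Agent.Lib.TC.D.Fi24Chain.SP88.ok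
theorem all89 : pt.chkRange [sw] 0 195300 = true := PT.chkRange_join (lo := 0) (a := 193130) (b := 2170) _ all88 Cfsg.Agent.Lib.TC.D.Fi24Chain.SP89.ok
theorem all90 : pt.chkRange [sw] 0 197470 = true := PT.chkRange_join (lo := 0) (a := 195300) (b := 2170) _ all89 Cfsg.Agent.Lib.TC.D.Fi24Chain.SP90.ok
theorem all91 : pt.chkRange [sw] 0 199640 = true := PT.chkRange_join (lo := 0) (a := 197470) (b := 2170) _ all90 Cfsg.Agent.Lib.TC.D.Fi24Chain.SP91.ok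
theorem all92 : pt.chkRange [sw] 0 201810 = true := PT.chkRange_join (lo := 0) (a := 199640) (b := 2170) _ all91 Cfsg.Agent.Lib.TC.D.Fi24Chain.SP92.ok
theorem all93 : pt.chkRange [sw] 0 203980 = true := PT.chkRange_join (lo := 0) (a := 201810) (b := 2170) _ all92 Cfsg.Agent.Lib.TC.D.Fi24Chain.SP93.ok
theorem all94 : pt.chkRange [sw] 0 206150 = true := PT.chkRange_join (lo := 0) (a := 203980) (b := 2170) _ all93 Cfsg.Agent.Lib.TC.D.Fi24Chain.SP94.ok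
theorem all95 : pt.chkRange [sw] 0 208320 = true := PT.chkRange_join (lo := 0) (a := 206150) (b := 2170) _ all94 Cfsg.Agent.Lib.TC.D.Fi24Chain.SP95.ok
theorem all96 : pt.chkRange [sw] 0 210490 = true := PT.chkRange_join (lo := 0) (a := 208320) (b := 2170) _ all95 Cfsg.Agent.Lib.TC.D.Fi24Chain.SP96.ok
theorem all97 : pt.chkRange [sw] 0 212660 = true := PT.chkRange_join (lo := 0) (a := 210490) (b := 2170) _ all96 Cfsg.Agent.Lib.TC.D.Fi24Chain.SP97.ok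
theorem all98 : pt.chkRange [sw] 0 214830 = true := PT.chkRange_join (lo := 0) (a := 212660) (b := 2170) _ all97 Cfsg.Agent.Lib.TC.D.Fi24Chain.SP98.ok
theorem all99 : pt.chkRange [sw] 0 217000 = true := PT.chkRange_join (lo := 0) (a := 214830) (b := 2170) _ all98 Cfsg.Agent.Lib.TC.D.Fi24Chain.SP99.ok
theorem all100 : pt.chkRange [sw] 0 219170 = true := PT.chkRange_join (lo := 0) (a := 217000) (b := 2170) _ all99 Cfsg.Agent.Lib.TC.D.Fi24Chain.SP100.ok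
theorem all101 : pt.chkRange [sw] 0 221340 = true := PT.chkRange_join (lo := 0) (a := 219170) (b := 2170) _ all100 Cfsg.Agent.Lib.TC.D.Fi24Chain.SP101.ok
theorem all102 : pt.chkRange [sw] 0 223510 = true := PT.chkRange_join (lo := 0) (a := 221340) (b := 2170) _ all101 Cfsg.Agent.Lib.TC.D.Fi24Chain.SP102.ok
theorem all103 : pt.chkRange [sw] 0 225680 = true := PT.chkRange_join (lo := 0) (a := 223510) (b := 2170) _ all102 Cfsg.Agent.Lib.TC.D.Fi24Chain.SP103.ok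
theorem all104 : pt.chkRange [sw] 0 227850 = true := PT.chkRange_join (lo := 0) (a := 225680) (b := 2170) _ all103 Cfsg.Agent.Lib.TC.D.Fi24Chain.SP104.ok
theorem all105 : pt.chkRange [sw] 0 230020 = true := PT.chkRange_join (lo := 0) (a := 227850) (b := 2170) _ all104 Cfsg.Agent.Lib.TC.D.Fi24Chain.SP105.ok
theorem all106 : pt.chkRange [sw] 0 232190 = true := PT.chkRange_join (lo := 0) (a := 230020) (b := 2170) _ all105 Cfsg.Agent.Lib.TC.D.Fi24Chain.SP106.ok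
theorem all107 : pt.chkRange [sw] 0 234360 = true := PT.chkRange_join (lo := 0) (a := 232190) (b := 2170) _ all106 Cfsg.Agent.Lib.TC.D.Fi24Chain.SP107.ok
theorem all108 : pt.chkRange [sw] 0 236530 = true := PT.chkRange_join (lo := 0) (a := 234360) (b := 2170) _ all107 Cfsg.Agent.Lib.TC.D.Fi24Chain.SP108.ok
theorem all109 : pt.chkRange [sw] 0 238700 = true := PT.chkRange_join (lo := 0) (a := 236530) (b := 2170) _ all108 Cfsg.Agent.Lib.TC.D.Fi24Chain.SP109.ok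
theorem all110 : pt.chkRange [sw] 0 240870 = true := PT.chkRange_join (lo := 0) (a := 238700) (b := 2170) _ all109 Cfsg.Agent.Lib.TC.D.Fi24Chain.SP110.ok
theorem all111 : pt.chkRange [sw] 0 243040 = true := PT.chkRange_join (lo := 0) (a := 240870) (b := 2170) _ all110 Cfsg.Agent.Lib.TC.D.Fi24Chain.SP111.ok
theorem all112 : pt.chkRange [sw] 0 245210 = true := PT.chkRange_join (lo := 0) (a := 243040) (b := 2170) _ all111 Cfsg.Agent.Lib.TC.D.Fi24Chain.SP112.ok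
theorem all113 : pt.chkRange [sw] 0 247380 = true := PT.chkRange_join (lo := 0) (a := 245210) (b := 2170) _ all112 Cfsg.Agent.Lib.TC.D.Fi24Chain.SP113.ok
theorem all114 : pt.chkRange [sw] 0 249550 = true := PT.chkRange_join (lo := 0) (a := 247380) (b := 2170) _ all113 Cfsg.Agent.Lib.TC.D.Fi24Chain.SP114.ok
theorem all115 : pt.chkRange [sw] 0 251720 = true := PT.chkRange_join (lo := 0) (a := 249550) (b := 2170) _ all114 Cfsg.Agent.Lib.TC.D.Fi24Chain.SP115.ok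
theorem all116 : pt.chkRange [sw] 0 253890 = true := PT.chkRange_join (lo := 0) (a := 251720) (b := 2170) _ all115 Cfsg.Agent.Lib.TC.D.Fi24Chain.SP116.ok
theorem all117 : pt.chkRange [sw] 0 256060 = true := PT.chkRange_join (lo := 0) (a := 253890) (b := 2170) _ all116 Cfsg.Agent.Lib.TC.D.Fi24Chain.SP117.ok
theorem all118 : pt.chkRange [sw] 0 258230 = true := PT.chkRange_join (lo := 0) (a := 256060) (b := 2170) _ all117 Cfsg.Agent.Lib.TC.D.Fi24Chain.SP118.ok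
theorem all119 : pt.chkRange [sw] 0 260400 = true := PT.chkRange_join (lo := 0) (a := 258230) (b := 2170) _ all118 Cfsg.Agent.Lib.TC.D.Fi24Chain.SP119.ok
theorem all120 : pt.chkRange [sw] 0 262570 = true := PT.chkRange_join (lo := 0) (a := 260400) (b := 2170) _ all119 Cfsg.Agent.Lib.TC.D.Fi24Chain.SP120.ok
theorem all121 : pt.chkRange [sw] 0 264740 = true := PT.chkRange_join (lo := 0) (a := 262570) (b := 2170) _ all120 Cfsg.Agent.Lib.TC.D.Fi24Chain.SP121.ok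
theorem all122 : pt.chkRange [sw] 0 266910 = true := PT.chkRange_join (lo := 0) (a := 264740) (b := 2170) _ all121 Cfsg.Agent.Lib.TC.D.Fi24Chain.SP122.ok
theorem all123 : pt.chkRange [sw] 0 269080 = true := PT.chkRange_join (lo := 0) (a := 266910) (b := 2170) _ all122 Cfsg.Agent.Lib.TC.D.Fi24Chain.SP123.ok
theorem all124 : pt.chkRange [sw] 0 271250 = true := PT.chkRange_join (lo := 0) (a := 269080) (b := 2170) _ all123 Cfsg.Agent.Lib.TC.D.Fi24Chain.SP124.ok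
theorem all125 : pt.chkRange [sw] 0 273420 = true := PT.chkRange_join (lo := 0) (a := 271250) (b := 2170) _ all124 Cfsg.Agent.Lib.TC.D.Fi24Chain.SP125.ok
theorem all126 : pt.chkRange [sw] 0 275590 = true := PT.chkRange_join (lo := 0) (a := 273420) (b := 2170) _ all125 Cfsg.Agent.Lib.TC.D.Fi24Chain.SP126.ok
theorem all127 : pt.chkRange [sw] 0 277760 = true := PT.chkRange_join (lo := 0) (a := 275590) (b := 2170) _ all126 Cfsg.Agent.Lib.TC.D.Fi24Chain.SP127.ok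
theorem all128 : pt.chkRange [sw] 0 279930 = true := PT.chkRange_join (lo := 0) (a := 277760) (b := 2170) _ all127 Cfsg.Agent.Lib.TC.D.Fi24Chain.SP128.ok
theorem all129 : pt.chkRange [sw] 0 282100 = true := PT.chkRange_join (lo := 0) (a := 279930) (b := 2170) _ all128 Cfsg.Agent.Lib.TC.D.Fi24Chain.SP129.ok
theorem all130 : pt.chkRange [sw] 0 284270 = true := PT.chkRange_join (lo := 0) (a := 282100) (b := 2170) _ all129 Cfsg.Agent.Lib.TC.D.Fi24Chain.SP130.ok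
theorem all131 : pt.chkRange [sw] 0 286440 = true := PT.chkRange_join (lo := 0) (a := 284270) (b := 2170) _ all130 Cfsg.Agent.Lib.TC.D.Fi24Chain.SP131.ok
theorem all132 : pt.chkRange [sw] 0 288610 = true := PT.chkRange_join (lo := 0) (a := 286440) (b := 2170) _ all131 Cfsg.Agent.Lib.TC.D.Fi24Chain.SP132.ok
theorem all133 : pt.chkRange [sw] 0 290780 = true := PT.chkRange_join (lo := 0) (a := 288610) (b := 2170) _ all132 Cfsg.Agent.Lib.TC.D.Fi24Chain.SP133.ok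
theorem all134 : pt.chkRange [sw] 0 292950 = true := PT.chkRange_join (lo := 0) (a := 290780) (b := 2170) _ all133 Cfsg.Agent.Lib.TC.D.Fi24Chain.SP134.ok
theorem all135 : pt.chkRange [sw] 0 295120 = true := PT.chkRange_join (lo := 0) (a := 292950) (b := 2170) _ all134 Cfsg.Agent.Lib.TC.D.Fi24Chain.SP135.ok
theorem all136 : pt.chkRange [sw] 0 297290 = true := PT.chkRange_join (lo := 0) (a := 295120) (b := 2170) _ all135 Cfsg.Agent.Lib.TC.D.Fi24Chain.SP136.ok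
theorem all137 : pt.chkRange [sw] 0 299460 = true := PT.chkRange_join (lo := 0) (a := 297290) (b := 2170) _ all136 Cfsg.Agent.Lib.TC.D.Fi24Chain.SP137.ok
theorem all138 : pt.chkRange [sw] 0 301630 = true := PT.chkRange_join (lo := 0) (a := 299460) (b := 2170) _ all137 Cfsg.Agent.Lib.TC.D.Fi24Chain.SP138.ok
theorem all139 : pt.chkRange [sw] 0 303800 = true := PT.chkRange_join (lo := 0) (a := 301630) (b := 2170) _ all138 Cfsg.Agent.Lib.TC.D.Fi24Chain.SP139.ok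
theorem all140 : pt.chkRange [sw] 0 305970 = true := PT.chkRange_join (lo := 0) (a := 303800) (b := 2170) _ all139 Cfsg.Agent.Lib.TC.D.Fi24Chain.SP140.ok
theorem all141 : pt.chkRange [sw] 0 306936 = true := PT.chkRange_join (lo := 0) (a := 305970) (b := 966) _ all140 Cfsg.Agent.Lib.TC.D.Fi24Chain.SP141.ok

theorem hgood : pt.Good [sw] where
  hpos := by decide
  hinv := by decide +kernel
  hrels := by decide +kernel
  hchk := all141

end Cfsg.Agent.Lib.TC.D.Fi24Chain.SP
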